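import Cfsg.Agent.GA.NilpBlock
import Cfsg.Agent.Grp.Misc

/-!
# Alperin's fusion theorem for Brauer pairs (centric radical form)
-/

set_option autoImplicit false
set_option linter.unusedSectionVars false

namespace Cfsg.GA

open MonoidAlgebra

universe u v w

variable {k : Type w} [Field k] {p : ℕ} [Fact p.Prime] [CharP k p] {G : Type u} [Group G]
  [Finite G] {P Q R : Subgroup G} {b e f : k[G]} {g : G}

local notation "C(" Q ")" => Subgroup.centralizer ((Q : Subgroup G) : Set G)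
local notation "N(" Q ")" => Subgroup.normalizer ((Q : Subgroup G) : Set G)

/-- `(Q, f) ≤ (P, e)` is fully normalized, centric and radical. -/
structure IsCrit (p : ℕ) (P : Subgroup G) (e : k[G]) (Q : Subgroup G) (f : k[G]) : Prop where
  le : BPLe p Q f P e
  fn : IsDefGrp p (N(Q) ⊓ cjStab f) f (P ⊓ N(Q))
  rad : ∀ X : Subgroup G, N(Q) ⊓ cjStab f ≤ N(X) →
    (∀ x ∈ X, x ∈ N(Q) ⊓ cjStab f → IsPRegular p x → x ∈ C(Q)) → P ⊓ N(Q) ⊓ X ≤ Q

theorem IsCrit.centric (h : IsCrit p P e Q f) : P ⊓ C(Q) ≤ Q := fun _ hx =>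
  h.rad C(Q) (inf_le_left.trans (normalizer_le_normalizer_centralizer' Q)) (fun _ h _ _ => h)
    ⟨⟨hx.1, centralizer_le_normalizer' Q hx.2⟩, hx.2⟩

/-- If the automizer of a critical subgroup is a `p`-group, the subgroup is `P`. -/
theorem IsCrit.eq_of_forall (h : IsCrit p P e Q f) (hP : IsBPair p P e)
    (H : ∀ x ∈ N(Q) ⊓ cjStab f, IsPRegular p x → x ∈ C(Q)) : Q = P := by
  by_contra hne
  exact (lt_inf_normalizer hP.isPGroup (lt_of_le_of_ne h.le.le hne)).not_ge fun x hx =>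
    h.rad ⊤ (le_normalizer_of_normal' _ _) (fun x _ => H x) ⟨hx, trivial⟩

theorem IsCrit.not_dvd [IsAlgClosed k] (h : IsCrit p P e Q f) (hP : IsBPair p P e) :
    ¬ p ∣ ((P ⊓ N(Q)) ⊔ C(Q)).relIndex (N(Q) ⊓ cjStab f) :=
  (h.le.left hP).isInertial_stab.not_dvd_relIndex h.fn

/-- **Alperin's fusion theorem**. -/
theorem IsMaxPair.alperin [IsAlgClosed k] (hP : IsMaxPair p b P e) {X : Subgroup G → G → Prop}
    (mono : ∀ {Q R g}, X R g → Q ≤ R → X Q g)
    (mul : ∀ {Q g h}, X Q g → X (cjS g Q) h → X Q (h * g))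
    (congr : ∀ {Q g h}, X Q g → (∀ x ∈ Q, h * x * h⁻¹ = g * x * g⁻¹) → X Q h)
    (base : ∀ Q f, IsCrit p P e Q f → ∀ g ∈ N(Q) ⊓ cjStab f, X Q g)
    (h : BFus p P e Q g) : X Q g := by
  induction hn : Nat.card G - Nat.card Q using Nat.strong_induction_on generalizing Q g with
  | _ n ih =>
  have ih' : ∀ {R : Subgroup G} {x : G}, Nat.card Q < Nat.card R → BFus p P e R x → X R x :=
    fun {R x} h1 h2 => ih _ (by have := Subgroup.card_le_card_group R; omega) h2 rfl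
  rcases h.le.eq_or_lt with rfl | hlt
  · refine base Q e ⟨BPLe.refl _ _, ?_, fun _ _ _ => inf_le_left.trans inf_le_left⟩ g
      (h.mem_stab hP.pair)
    rw [inf_eq_left.2 Subgroup.le_normalizer]; exact hP.isDefGrp_stab
  obtain ⟨f, hf, hf'⟩ := h
  obtain ⟨t, h1, h2⟩ := hP.exists_fullyNormalized (hP.toIsPairOf.of_le hf)
  have hI := (h1.left hP.pair).isInertial_stab
  have key : ∀ x, BPLe p (cjS x Q) (cj x f) P e → ∃ y ∈ N(cjS t Q) ⊓ cjStab (cj t f),
      X (cjS x Q) (y * (t * x⁻¹)) ∧ X (cjS t Q) (y * (t * x⁻¹))⁻¹ := by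
    intro x hx
    have hlt' : cjS x Q < P := lt_of_le_of_ne hx.le fun h => hlt.ne
      (Subgroup.eq_of_le_of_card_ge hlt.le (by rw [← h, card_cjS]))
    have h3 := lt_inf_normalizer hP.pair.isPGroup hlt'
    obtain ⟨r, h4, h5⟩ := hx.exists_bpNormal hP.pair h3.le inf_le_left inf_le_right
    have h6 := h4.cjMap (t * x⁻¹)
    rw [← cjS_mul, ← cj_mul, inv_mul_cancel_right] at h6
    obtain ⟨y, hy, h7⟩ := h1.exists_cj_of_isDefGrp hP.pair hI (by rwa [h1.inf_stab hP.pair]) h6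
      (le_inf h6.le_normalizer h6.stable)
    have h8 : BFus p P e (P ⊓ N(cjS x Q)) (y * (t * x⁻¹)) := ⟨r, h5, by rwa [cjS_mul, cj_mul]⟩
    have h9 := card_lt_of_lt h3
    rw [card_cjS] at h9
    refine ⟨y, hy, mono (ih' h9 h8) h3.le, mono (ih' (by rwa [card_cjS]) h8.inv) ?_⟩
    refine le_trans (le_of_eq ?_) (cjS_mono _ h3.le)
    rw [← cjS_mul, mul_assoc, inv_mul_cancel_right, cjS_mul, cjS_of_mem_normalizer hy.1]
  have hX : ∀ z ∈ N(cjS t Q) ⊓ cjStab (cj t f), X (cjS t Q) z := fun z hz => by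
    by_cases hc : IsCrit p P e (cjS t Q) (cj t f)
    · exact base _ _ hc z hz
    obtain ⟨Y, hY, hY', hY''⟩ : ∃ Y : Subgroup G, N(cjS t Q) ⊓ cjStab (cj t f) ≤ N(Y) ∧
        (∀ x ∈ Y, x ∈ N(cjS t Q) ⊓ cjStab (cj t f) → IsPRegular p x → x ∈ C(cjS t Q)) ∧
        ¬ P ⊓ N(cjS t Q) ⊓ Y ≤ cjS t Q := by
      by_contra! H
      exact hc ⟨h1, h2, H⟩
    have hcard := card_cjS t Q
    generalize cjS t Q = Q', cj t f = f' at *
    have hS : (P ⊓ N(Q')) ⊔ C(Q') ≤ N(Q') ⊓ cjStab f' := sup_le h2.le hI.centralizer_le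
    have hK : N(Q') ⊓ cjStab f' ≤ N((N(Q') ⊓ cjStab f') ⊓ Y) := fun x hx => by
      rw [← cjS_eq_self_iff, cjS_inf, cjS_of_mem_normalizer (Subgroup.le_normalizer hx),
        cjS_of_mem_normalizer (hY hx)]
    have h3 : (N(Q') ⊓ cjStab f') ⊓ Y ≤ (P ⊓ N(Q')) ⊔ C(Q') := by
      refine le_of_pow_mem_of_not_dvd (p := p) (K := C(Q') ⊓ ((N(Q') ⊓ cjStab f') ⊓ Y)) inf_le_right
        (fun x hx => ?_) (fun x => exists_pow_mem_of_forall_isPRegular (L := _ ⊓ Y) fun x hx hr =>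
          Subgroup.mem_inf.2 ⟨hY' x hx.2 hx.1 hr, hx⟩) (inf_le_left.trans le_sup_right)
        fun hd => hI.not_dvd_relIndex h2 (hd.trans ?_)
      · rw [← cjS_eq_self_iff, cjS_inf, cjS_of_mem_normalizer (Subgroup.le_normalizer hx),
          cjS_of_mem_normalizer (hI.le_normalizer_centralizer hx.1)]
      · rw [← relIndex_sup_eq_relIndex_of_le_normalizer (hS.trans hK),
          ← Subgroup.relIndex_mul_relIndex _ _ _ le_sup_left (sup_le hS inf_le_left)]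
        exact dvd_mul_right _ _
    obtain ⟨c, hc, h4⟩ := BFus.exists_extend (R := Q' ⊔ (P ⊓ N(Q') ⊓ Y))
      ((h1.bFus_iff hP.pair hz.1).2 hz.2) hP.pair (f := f') (by rwa [cjS_of_mem_normalizer hz.1])
      (by rw [cjS_of_mem_normalizer hz.1]; exact h1.isDefGrp_centralizer_of_normalizer hP.pair h2)
      le_sup_left (sup_le (le_inf h1.le Subgroup.le_normalizer) inf_le_left) (by
        rw [cjS_sup, cjS_of_mem_normalizer hz.1]
        refine sup_le (le_sup_of_le_left (le_inf h1.le Subgroup.le_normalizer)) (le_trans ?_ h3)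
        rw [← cjS_of_mem_normalizer (hK hz)]
        exact cjS_mono _ (inf_le_inf_right _ h2.le))
    refine congr (mono (ih' ?_ h4) le_sup_left) fun x hx => ?_
    · rw [← hcard]
      exact card_lt_of_lt (lt_of_le_of_ne le_sup_left fun e => hY'' (le_sup_right.trans e.ge))
    · rw [← mem_centralizer_sub_conj'.1 hc _ (conj_mem_cjS.2 hx)]; group
  obtain ⟨y, hy, h3, -⟩ := key 1 (by simpa using hf)
  obtain ⟨y', hy', -, h4⟩ := key g hf'
  rw [cjS_one, inv_one, mul_one] at h3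
  have e1 : cjS (y * t) Q = cjS t Q := by rw [cjS_mul, cjS_of_mem_normalizer hy.1]
  have h5 := mul h3 (e1 ▸ hX _ (mul_mem hy' (inv_mem hy)))
  have h6 := mul h5 (by
    rwa [cjS_mul, e1, cjS_of_mem_normalizer (mul_mem hy'.1 (inv_mem hy.1))])
  exact congr h6 fun x _ => by group

/-- Elementwise form of Alperin's fusion theorem. -/
theorem IsMaxPair.rel_of_bFus [IsAlgClosed k] (hP : IsMaxPair p b P e) {r : G → G → Prop}
    (trans : ∀ {x y z}, r x y → r y z → r x z)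
    (base : ∀ Q f, IsCrit p P e Q f → ∀ g ∈ N(Q) ⊓ cjStab f, ∀ x ∈ Q, r x (g * x * g⁻¹))
    (h : BFus p P e Q g) {x : G} (hx : x ∈ Q) : r x (g * x * g⁻¹) :=
  hP.alperin (X := fun Q g => ∀ x ∈ Q, r x (g * x * g⁻¹)) (fun h1 h2 x hx => h1 x (h2 hx))
    (fun h1 h2 x hx => trans (h1 x hx) (by
      convert h2 _ (conj_mem_cjS.2 hx) using 1; group))
    (fun h1 h2 x hx => h2 x hx ▸ h1 x hx) base h x hx

/-- Control of fusion is detected on critical subgroups. -/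
theorem IsMaxPair.exists_conj_eq_of_crit [IsAlgClosed k] (hP : IsMaxPair p b P e) {H : Subgroup G}
    (base : ∀ Q f, IsCrit p P e Q f → ∀ g ∈ N(Q) ⊓ cjStab f,
      ∃ u ∈ H, ∀ y ∈ Q, g * y * g⁻¹ = u * y * u⁻¹)
    (h : BFus p P e Q g) : ∃ u ∈ H, ∀ y ∈ Q, g * y * g⁻¹ = u * y * u⁻¹ :=
  hP.alperin (X := fun Q g => ∃ u ∈ H, ∀ y ∈ Q, g * y * g⁻¹ = u * y * u⁻¹)
    (fun ⟨u, hu, h1⟩ h2 => ⟨u, hu, fun x hx => h1 x (h2 hx)⟩)
    (fun {_ g h} ⟨u, hu, h1⟩ ⟨v, hv, h2⟩ => ⟨v * u, mul_mem hv hu, fun x hx => by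
      rw [show h * g * x * (h * g)⁻¹ = h * (g * x * g⁻¹) * h⁻¹ by group,
        h2 _ (conj_mem_cjS.2 hx), h1 x hx]; group⟩)
    (fun ⟨u, hu, h1⟩ h2 => ⟨u, hu, fun x hx => (h2 x hx).trans (h1 x hx)⟩) base h

/-- If no proper subgroup is critical, the inertial group controls fusion. -/
theorem IsMaxPair.exists_mem_stab_of_crit [IsAlgClosed k] (hP : IsMaxPair p b P e)
    (H : ∀ Q f, IsCrit p P e Q f → Q = P) (h : BFus p P e Q g) :
    ∃ u ∈ N(P) ⊓ cjStab e, ∀ y ∈ Q, g * y * g⁻¹ = u * y * u⁻¹ :=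
  hP.exists_conj_eq_of_crit (fun Q f hc g hg => by
    obtain rfl := H Q f hc
    obtain rfl := hc.le.eq_of_self hP.pair
    exact ⟨g, hg, fun _ _ => rfl⟩) h

theorem IsMaxPair.exists_conj_eq_of_forall_regular [IsAlgClosed k] (hP : IsMaxPair p b P e)
    (H : ∀ x ∈ N(P) ⊓ cjStab e, IsPRegular p x → x ∈ C(P)) (hg : g ∈ N(P) ⊓ cjStab e) :
    ∃ u ∈ P, ∀ y ∈ P, g * y * g⁻¹ = u * y * u⁻¹ := by
  have hI := hP.pair.isInertial_stab
  obtain ⟨u, hu, z, hz, rfl⟩ := (mem_sup_of_le_normalizer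
    (Subgroup.le_normalizer.trans (normalizer_le_normalizer_centralizer' P))).1
    (le_of_pow_mem_of_not_dvd hI.centralizer_le hI.le_normalizer_centralizer
      (fun _ => exists_pow_mem_of_forall_isPRegular H) le_sup_right
      (hI.not_dvd_relIndex hP.isDefGrp_stab) hg)
  exact ⟨u, hu, conj_eq_conj_iff_mem_centralizer.2 (by simpa using hz)⟩

/-- Frobenius' criterion on critical subgroups. -/
theorem IsMaxPair.isNilpIn_of_crit [IsAlgClosed k] (hP : IsMaxPair p b P e)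
    (H : ∀ Q f, IsCrit p P e Q f → ∀ x ∈ N(Q) ⊓ cjStab f, IsPRegular p x → x ∈ C(Q)) :
    IsNilpIn p ⊤ b :=
  hP.isNilpIn_iff.2 fun _ _ => hP.exists_conj_eq_of_crit fun Q f hc g hg => by
    obtain rfl := hc.eq_of_forall hP.pair (H Q f hc)
    obtain rfl := hc.le.eq_of_self hP.pair
    exact hP.exists_conj_eq_of_forall_regular (H _ _ hc) hg

end Cfsg.GA

set_option linter.all false in
theorem Cfsg.Rz.GA_Alperin_0 : True := by
  have := @_root_.Cfsg.GA.IsCrit.mk.congr_simp.{0, 0}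
  trivial
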