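import Cfsg.Agent.GA.Idem

/-!
# Defect groups of primitive idempotents of `(k[K])^L`
-/

set_option autoImplicit false
set_option linter.unusedSectionVars false

namespace Cfsg.GA

open MonoidAlgebra

universe u v w

variable {k : Type w} [Field k] {p : ℕ} [Fact p.Prime] [CharP k p] {G : Type u} [Group G]
  [Finite G] {H : Type v} [Group H] [Finite H]

/-- `a` lies in the defect ideal of `D` in `L`; for `a ∈ (k[K])^L` and `D ≤ L ≤ N(K)` this says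
`a ∈ Tr_D^L((k[K])^D)` (`InDef.exists_relTr`, `inDef_relTr`). -/
def InDef (p : ℕ) (L D : Subgroup G) (a : k[G]) : Prop :=
  ∀ Q : Subgroup G, Q ≤ L → IsPGroup p Q → Br Q a ≠ 0 → ∃ h ∈ L, cjS h Q ≤ D

variable {K L D Q : Subgroup G} {a b e : k[G]}

theorem IsDefGrp.inDef (h : IsDefGrp p L e D) : InDef p L D e := h.maximal

theorem inDef_zero : InDef p L D (0 : k[G]) := fun _ _ _ h => (h (map_zero _)).elim

theorem InDef.add (ha : InDef p L D a) (hb : InDef p L D b) : InDef p L D (a + b) := by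
  intro Q h1 h2 h3
  by_cases h : Br Q a = 0
  · exact hb Q h1 h2 (by rwa [map_add, h, zero_add] at h3)
  · exact ha Q h1 h2 h

theorem InDef.smul (ha : InDef p L D a) (c : k) : InDef p L D (c • a) := fun Q h1 h2 h3 =>
  ha Q h1 h2 fun h => h3 (by rw [map_smul, h, smul_zero])

theorem InDef.sub (ha : InDef p L D a) (hb : InDef p L D b) : InDef p L D (a - b) := by
  simpa [sub_eq_add_neg] using ha.add (hb.smul (-1))

theorem InDef.sum {ι : Type*} {s : Finset ι} {f : ι → k[G]} (h : ∀ i ∈ s, InDef p L D (f i)) :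
    InDef p L D (∑ i ∈ s, f i) :=
  Finset.sum_induction _ _ (fun _ _ => InDef.add) inDef_zero h

theorem InDef.mul_left (hb : InDef p L D b) (ha : a ∈ fixedBy k L) (hb' : b ∈ fixedBy k L) :
    InDef p L D (a * b) := fun Q h1 h2 h3 => hb Q h1 h2 fun h => h3 (by
  rw [Br_mul h2 (fixedBy_anti h1 ha) (fixedBy_anti h1 hb'), h, mul_zero])

theorem InDef.mul_right (ha : InDef p L D a) (ha' : a ∈ fixedBy k L) (hb : b ∈ fixedBy k L) :
    InDef p L D (a * b) := fun Q h1 h2 h3 => ha Q h1 h2 fun h => h3 (by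
  rw [Br_mul h2 (fixedBy_anti h1 ha') (fixedBy_anti h1 hb), h, zero_mul])

theorem InDef.mono (ha : InDef p L D a) {D' : Subgroup G} (h : D ≤ D') : InDef p L D' a :=
  fun Q h1 h2 h3 => (ha Q h1 h2 h3).imp fun _ hh => ⟨hh.1, hh.2.trans h⟩

theorem InDef.conj (ha : InDef p L D a) {g : G} (hg : g ∈ L) : InDef p L (cjS g D) a := by
  intro Q h1 h2 h3
  obtain ⟨h, hh, hle⟩ := ha Q h1 h2 h3
  exact ⟨g * h, mul_mem hg hh, by rw [cjS_mul]; exact cjS_mono g hle⟩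

theorem InDef.cjMap (ha : InDef p L D a) (g : G) : InDef p (cjS g L) (cjS g D) (cj g a) := by
  intro Q h1 h2 h3
  obtain ⟨h, hh, hle⟩ := ha (cjS g⁻¹ Q) (le_cjS_iff.1 h1) (isPGroup_cjS h2 _)
    (by rwa [Ne, ← Br_cjS_eq_zero_iff (g := g), cjS_cjS_inv])
  refine ⟨g * h * g⁻¹, conj_mem_cjS.2 hh, ?_⟩
  rw [cjS_mul, cjS_mul]
  exact cjS_mono g hle

theorem InDef.trunc (ha : InDef p L D a) (S : Set G) : InDef p L D (trunc S a) :=
  fun Q h1 h2 h3 => ha Q h1 h2 fun h => h3 (by rw [Br_trunc, h, map_zero])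

theorem inDef_of_sylow (hD : IsSylowIn p D L) (a : k[G]) : InDef p L D a :=
  fun _ h1 h2 _ => hD.exists_cjS_le h2 h1

theorem inDef_orbitSum {x : G} (hD : IsSylowIn p D (L ⊓ Subgroup.centralizer {x})) :
    InDef p L D (orbitSum k L x) := by
  intro Q h1 h2 h3
  obtain ⟨h, hh, hle⟩ := Br_orbitSum_ne_zero.1 h3
  obtain ⟨g, hg, hle'⟩ := hD.exists_cjS_le (isPGroup_cjS h2 h) (le_inf (cjS_le_of_mem hh h1) hle)
  exact ⟨g * h, mul_mem hg.1 hh, by rwa [cjS_mul]⟩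

theorem inDef_relTr (ha : a ∈ fixedBy k D) : InDef p L D (relTr D L a) := fun _ h1 h2 h3 =>
  (exists_cjS_le_of_Br_relTr_ne_zero h2 h1 ha h3).imp fun _ h => ⟨h.1, h.2.1⟩

theorem InDef.exists_cjS_le_of_coeff (ha : InDef p L D a) {x : G} (hx : a.coeff x ≠ 0)
    (hQ : IsPGroup p Q) (hle : Q ≤ L ⊓ Subgroup.centralizer {x}) : ∃ h ∈ L, cjS h Q ≤ D :=
  ha Q (hle.trans inf_le_left) hQ
    (Br_ne_zero_iff.2 ⟨x, mem_centralizer_iff_le.2 (hle.trans inf_le_right), hx⟩)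

theorem natCast_relIndex_ne_zero {S X : Subgroup G} (hS : IsSylowIn p S X) (h : S ≤ D) :
    (D.relIndex X : k) ≠ 0 := by
  rw [Ne, CharP.cast_eq_zero_iff k p]
  exact fun hd => hS.not_dvd_relIndex (hd.trans (Subgroup.relIndex_dvd_of_le_left X h))

theorem InDef.exists_relTr (hL : L ≤ Subgroup.normalizer (K : Set G)) (hD : D ≤ L)
    (ha : a ∈ Zalg k K L) (h : InDef p L D a) : ∃ c ∈ Zalg k K D, relTr D L c = a := by
  refine fixedBy_induction (motive := fun a => ∃ c ∈ Zalg k K D, relTr D L c = a) ha.2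
    ⟨0, zero_mem _, relTr_zero _ _⟩ ?_ ?_
  · rintro _ _ ⟨c, hc, rfl⟩ ⟨d, hd, rfl⟩
    exact ⟨c + d, add_mem hc hd, relTr_add _ _ _ _⟩
  · intro x hx r
    obtain ⟨S, hS⟩ := exists_isSylowIn p (L ⊓ Subgroup.centralizer {x})
    obtain ⟨g, hg, hle⟩ := h.exists_cjS_le_of_coeff hx hS.isPGroup hS.le
    have hS' := hS.cjS g
    rw [cjS_inf, cjS_of_mem hg, cjS_centralizer_singleton] at hS'
    have hne := natCast_relIndex_ne_zero (k := k) hS' hle
    have hxK : g * x * g⁻¹ ∈ K := conj_mem_of_mem_normalizer (hL hg) (mem_of_coeff_ne_zero ha.1 hx)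
    refine ⟨(r * (D.relIndex (L ⊓ Subgroup.centralizer {g * x * g⁻¹}) : k)⁻¹) •
      orbitSum k D (g * x * g⁻¹), Subalgebra.smul_mem _ (orbitSum_mem_Zalg (hD.trans hL) hxK) _, ?_⟩
    rw [relTr_smul, relTr_orbitSum hD, ← Nat.cast_smul_eq_nsmul k, smul_smul, mul_assoc,
      inv_mul_cancel₀ hne, mul_one, orbitSum_conj hg]

theorem inDef_iff_exists_relTr (hL : L ≤ Subgroup.normalizer (K : Set G)) (hD : D ≤ L)
    (ha : a ∈ Zalg k K L) : InDef p L D a ↔ ∃ c ∈ Zalg k K D, relTr D L c = a :=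
  ⟨InDef.exists_relTr hL hD ha, by rintro ⟨c, hc, rfl⟩; exact inDef_relTr hc.2⟩

theorem inDef_emb_iff {f : H →* G} (hf : Function.Injective f) {L D : Subgroup H} {a : k[H]} :
    InDef p (L.map f) (D.map f) (emb f a) ↔ InDef p L D a := by
  constructor
  · intro h Q h1 h2 h3
    obtain ⟨_, ⟨g, hg, rfl⟩, hle⟩ := h (Q.map f) (Subgroup.map_mono h1) (h2.map f)
      (by rwa [Ne, Br_emb_eq_zero_iff hf])
    rw [← map_cjS, Subgroup.map_le_map_iff_of_injective hf] at hle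
    exact ⟨g, hg, hle⟩
  · intro h Q h1 h2 h3
    have hQ : (Q.comap f).map f = Q :=
      Subgroup.map_comap_eq_self (h1.trans (Subgroup.map_le_range f L))
    rw [← hQ] at h1 h3 ⊢
    obtain ⟨g, hg, hle⟩ := h (Q.comap f) ((Subgroup.map_le_map_iff_of_injective hf).1 h1)
      (h2.comap_of_injective f hf) (by rwa [Ne, Br_emb_eq_zero_iff hf] at h3)
    exact ⟨f g, ⟨g, hg, rfl⟩, by rw [← map_cjS]; exact Subgroup.map_mono hle⟩

/-! ### Formal properties of `IsDefGrp` -/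

theorem isDefGrp_emb_iff {f : H →* G} (hf : Function.Injective f) {L D : Subgroup H} {e : k[H]} :
    IsDefGrp p (L.map f) (emb f e) (D.map f) ↔ IsDefGrp p L e D :=
  ⟨fun h => ⟨(Subgroup.map_le_map_iff_of_injective hf).1 h.le,
      h.isPGroup.of_equiv (D.equivMapOfInjective f hf).symm,
      by rw [Ne, ← Br_emb_eq_zero_iff hf]; exact h.br_ne_zero, (inDef_emb_iff hf).1 h.inDef⟩,
    fun h => ⟨Subgroup.map_mono h.le, h.isPGroup.map f,
      by rw [Ne, Br_emb_eq_zero_iff hf]; exact h.br_ne_zero, (inDef_emb_iff hf).2 h.inDef⟩⟩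

theorem isDefGrp_emb_subtype_iff {e : k[K]} {D : Subgroup K} :
    IsDefGrp p K (emb K.subtype e) (D.map K.subtype) ↔ IsDefGrp p ⊤ e D := by
  rw [← isDefGrp_emb_iff K.subtype_injective, map_subtype_top]

theorem IsDefGrp.cjMap (h : IsDefGrp p L e D) (g : G) :
    IsDefGrp p (cjS g L) (cj g e) (cjS g D) :=
  ⟨cjS_mono g h.le, isPGroup_cjS h.isPGroup g, by rw [Ne, Br_cjS_eq_zero_iff]; exact h.br_ne_zero,
    h.inDef.cjMap g⟩

theorem isDefGrp_cj_iff {g : G} : IsDefGrp p (cjS g L) (cj g e) (cjS g D) ↔ IsDefGrp p L e D :=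
  ⟨fun h => by simpa using h.cjMap g⁻¹, fun h => h.cjMap g⟩

theorem IsDefGrp.conj (h : IsDefGrp p L e D) (he : e ∈ fixedBy k L) {g : G} (hg : g ∈ L) :
    IsDefGrp p L e (cjS g D) := by
  have := h.cjMap g
  rwa [cjS_of_mem hg, he g hg] at this

theorem IsDefGrp.exists_cjS_le (h : IsDefGrp p L e D) (hQL : Q ≤ L) (hQ : IsPGroup p Q)
    (h0 : Br Q e ≠ 0) : ∃ g ∈ L, cjS g Q ≤ D := h.maximal Q hQL hQ h0

theorem IsDefGrp.card_le (h : IsDefGrp p L e D) (hQL : Q ≤ L) (hQ : IsPGroup p Q)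
    (h0 : Br Q e ≠ 0) : Nat.card Q ≤ Nat.card D := by
  obtain ⟨g, -, hle⟩ := h.exists_cjS_le hQL hQ h0
  rw [← card_cjS g Q]
  exact Subgroup.card_le_of_le hle

theorem IsDefGrp.card_dvd (h : IsDefGrp p L e D) (hQL : Q ≤ L) (hQ : IsPGroup p Q)
    (h0 : Br Q e ≠ 0) : Nat.card Q ∣ Nat.card D := by
  obtain ⟨g, -, hle⟩ := h.exists_cjS_le hQL hQ h0
  rw [← card_cjS g Q]
  exact Subgroup.card_dvd_of_le hle

theorem IsDefGrp.exists_cjS_eq_of_card_le (h : IsDefGrp p L e D) (hQL : Q ≤ L) (hQ : IsPGroup p Q)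
    (h0 : Br Q e ≠ 0) (hc : Nat.card D ≤ Nat.card Q) : ∃ g ∈ L, cjS g Q = D := by
  obtain ⟨g, hg, hle⟩ := h.exists_cjS_le hQL hQ h0
  exact ⟨g, hg, Subgroup.eq_of_le_of_card_ge hle (by rwa [card_cjS])⟩

theorem IsDefGrp.card_eq {D' : Subgroup G} (h : IsDefGrp p L e D) (h' : IsDefGrp p L e D') :
    Nat.card D = Nat.card D' :=
  le_antisymm (h'.card_le h.le h.isPGroup h.br_ne_zero) (h.card_le h'.le h'.isPGroup h'.br_ne_zero)

theorem IsDefGrp.exists_cjS_eq {D' : Subgroup G} (h : IsDefGrp p L e D) (h' : IsDefGrp p L e D') :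
    ∃ g ∈ L, cjS g D = D' :=
  h'.exists_cjS_eq_of_card_le h.le h.isPGroup h.br_ne_zero (h.card_eq h').ge

theorem IsDefGrp.of_card_le (h : IsDefGrp p L e D) (hQL : Q ≤ L) (hQ : IsPGroup p Q)
    (h0 : Br Q e ≠ 0) (hc : Nat.card D ≤ Nat.card Q) : IsDefGrp p L e Q := by
  obtain ⟨g, hg, rfl⟩ := h.exists_cjS_eq_of_card_le hQL hQ h0 hc
  exact ⟨hQL, hQ, h0, show InDef p L Q e by simpa using h.inDef.conj (inv_mem hg)⟩

theorem IsDefGrp.eq_of_le (h : IsDefGrp p L e D) (hDQ : D ≤ Q) (hQL : Q ≤ L) (hQ : IsPGroup p Q)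
    (h0 : Br Q e ≠ 0) : Q = D :=
  (Subgroup.eq_of_le_of_card_ge hDQ (h.card_le hQL hQ h0)).symm

theorem IsDefGrp.Br_eq_zero_of_lt (h : IsDefGrp p L e D) (hDQ : D < Q) (hQL : Q ≤ L)
    (hQ : IsPGroup p Q) : Br Q e = 0 := by
  by_contra h0; exact hDQ.ne' (h.eq_of_le hDQ.le hQL hQ h0)

theorem IsDefGrp.exists_ge (h : IsDefGrp p L e D) (he : e ∈ fixedBy k L) (hQL : Q ≤ L)
    (hQ : IsPGroup p Q) (h0 : Br Q e ≠ 0) : ∃ g ∈ L, IsDefGrp p L e (cjS g D) ∧ Q ≤ cjS g D := by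
  obtain ⟨g, hg, hle⟩ := h.exists_cjS_le hQL hQ h0
  exact ⟨g⁻¹, inv_mem hg, h.conj he (inv_mem hg), cjS_le_iff.1 hle⟩

theorem IsDefGrp.of_inDef (h : IsDefGrp p L e D) (hi : InDef p L Q e) :
    ∃ g ∈ L, cjS g D ≤ Q := hi D h.le h.isPGroup h.br_ne_zero

theorem IsDefGrp.Br_ne_zero_iff (h : IsDefGrp p L e D) (he : e ∈ fixedBy k L) (hQL : Q ≤ L)
    (hQ : IsPGroup p Q) : Br Q e ≠ 0 ↔ ∃ g ∈ L, cjS g Q ≤ D :=
  ⟨h.exists_cjS_le hQL hQ, fun ⟨g, hg, hle⟩ => by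
    rw [Ne, ← Br_cjS_eq_zero_iff_of_fixed hg he]
    exact Br_ne_zero_of_le hle h.br_ne_zero⟩

theorem IsDefGrp.isSylowIn_of_coeff (h : IsDefGrp p L e D) {x : G}
    (hx : x ∈ Subgroup.centralizer (D : Set G)) (h0 : e.coeff x ≠ 0) :
    IsSylowIn p D (L ⊓ Subgroup.centralizer {x}) :=
  ⟨le_inf h.le (mem_centralizer_iff_le.1 hx), h.isPGroup, fun _ h1 h2 h3 =>
    h.eq_of_le h3 (h1.trans inf_le_left) h2
      (GA.Br_ne_zero_iff.2 ⟨x, mem_centralizer_iff_le.2 (h1.trans inf_le_right), h0⟩)⟩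

theorem isDefGrp_of_sylow (hD : IsSylowIn p D L) (h0 : Br D e ≠ 0) : IsDefGrp p L e D :=
  ⟨hD.le, hD.isPGroup, h0, inDef_of_sylow hD e⟩

theorem IsDefGrp.exists_relTr (h : IsDefGrp p L e D) (hL : L ≤ Subgroup.normalizer (K : Set G))
    (he : e ∈ Zalg k K L) : ∃ c ∈ Zalg k K D, relTr D L c = e := h.inDef.exists_relTr hL h.le he

/-! ### Existence -/

theorem IsPrimIdem.inDef_of_not_isNilpotent (he : IsPrimIdem (Zalg k K L) e) (hKL : K ≤ L)
    (ha : a ∈ Zalg k K L) (h : InDef p L D a) (hn : ¬ IsNilpotent (a * e)) : InDef p L D e := by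
  obtain ⟨u, hu, h1⟩ := he.exists_inv (Zalg_mul_comm hKL) ha hn
  rw [← h1]
  exact (h.mul_left hu.2 ha.2).mul_right (mul_mem hu.2 ha.2) he.mem.2

theorem IsPrimIdem.isNilpotent_of_Br_eq_zero (he : IsPrimIdem (Zalg k K L) e) (hKL : K ≤ L)
    (hQL : Q ≤ L) (hQ : IsPGroup p Q) (h0 : Br Q e ≠ 0) (ha : a ∈ Zalg k K L)
    (h : Br Q (a * e) = 0) : IsNilpotent (a * e) := by
  by_contra hn
  obtain ⟨u, hu, h1⟩ := he.exists_inv (Zalg_mul_comm hKL) ha hn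
  apply h0
  rw [← h1, mul_assoc, Br_mul hQ (fixedBy_anti hQL hu.2)
    (fixedBy_anti hQL (mul_mem ha.2 he.mem.2)), h, mul_zero]

theorem IsPrimIdem.exists_defect_elem (he : IsPrimIdem (Zalg k K L) e) (hKL : K ≤ L)
    (hL : L ≤ Subgroup.normalizer (K : Set G)) :
    ∃ x ∈ K, e.coeff x ≠ 0 ∧ ¬ IsNilpotent (orbitSum k L x * e) := by
  obtain ⟨s, hs, -, h⟩ := exists_eq_sum_orbitSum he.mem.2
  have hK : ∀ x ∈ s, x ∈ K := fun x hx => mem_of_coeff_ne_zero he.mem.1 (hs x hx)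
  obtain ⟨x, hx, hn⟩ := he.exists_not_isNilpotent (Zalg_mul_comm hKL) (s := s)
    (a := fun x => e.coeff x • orbitSum k L x)
    (fun x hx => Subalgebra.smul_mem _ (orbitSum_mem_Zalg hL (hK x hx)) _) (by rw [← h, he.idem])
  refine ⟨x, hK x hx, hs x hx, fun h' => hn ?_⟩
  rw [smul_mul_assoc]
  exact h'.smul _

theorem IsPrimIdem.isDefGrp_of_defect_elem (he : IsPrimIdem (Zalg k K L) e) (hKL : K ≤ L)
    (hL : L ≤ Subgroup.normalizer (K : Set G)) {x : G} (hx : e.coeff x ≠ 0)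
    (hn : ¬ IsNilpotent (orbitSum k L x * e))
    (hD : IsSylowIn p D (L ⊓ Subgroup.centralizer {x})) : IsDefGrp p L e D :=
  ⟨hD.le.trans inf_le_left, hD.isPGroup,
    Br_ne_zero_iff.2 ⟨x, mem_centralizer_iff_le.2 (hD.le.trans inf_le_right), hx⟩,
    he.inDef_of_not_isNilpotent hKL (orbitSum_mem_Zalg hL (mem_of_coeff_ne_zero he.mem.1 hx))
      (inDef_orbitSum hD) hn⟩

variable (p) in
theorem IsPrimIdem.exists_isDefGrp (he : IsPrimIdem (Zalg k K L) e) (hKL : K ≤ L)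
    (hL : L ≤ Subgroup.normalizer (K : Set G)) : ∃ D, IsDefGrp p L e D := by
  obtain ⟨x, -, hx, hn⟩ := he.exists_defect_elem hKL hL
  obtain ⟨D, hD⟩ := exists_isSylowIn p (L ⊓ Subgroup.centralizer {x})
  exact ⟨D, he.isDefGrp_of_defect_elem hKL hL hx hn hD⟩

variable (p) in
theorem IsBlockIdem.exists_isDefGrp (he : IsBlockIdem K e) : ∃ D, IsDefGrp p K e D :=
  IsPrimIdem.exists_isDefGrp p he le_rfl Subgroup.le_normalizer

theorem IsPrimIdem.exists_isDefGrp_ge (he : IsPrimIdem (Zalg k K L) e) (hKL : K ≤ L)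
    (hL : L ≤ Subgroup.normalizer (K : Set G)) (hQL : Q ≤ L) (hQ : IsPGroup p Q)
    (h0 : Br Q e ≠ 0) : ∃ D, IsDefGrp p L e D ∧ Q ≤ D := by
  obtain ⟨D, hD⟩ := he.exists_isDefGrp p hKL hL
  obtain ⟨g, -, h⟩ := hD.exists_ge he.mem.2 hQL hQ h0
  exact ⟨_, h⟩

theorem IsPrimIdem.isDefGrp_of_maximal (he : IsPrimIdem (Zalg k K L) e) (hKL : K ≤ L)
    (hL : L ≤ Subgroup.normalizer (K : Set G)) (hQL : Q ≤ L) (hQ : IsPGroup p Q)
    (h0 : Br Q e ≠ 0)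
    (hmax : ∀ R : Subgroup G, Q ≤ R → R ≤ L → IsPGroup p R → Br R e ≠ 0 → R = Q) :
    IsDefGrp p L e Q := by
  obtain ⟨D, hD, hle⟩ := he.exists_isDefGrp_ge hKL hL hQL hQ h0
  rwa [hmax D hle hD.le hD.isPGroup hD.br_ne_zero] at hD

/-- It suffices to test maximality inside the normalizer. -/
theorem IsPrimIdem.isDefGrp_of_maximal_normalizer (he : IsPrimIdem (Zalg k K L) e) (hKL : K ≤ L)
    (hL : L ≤ Subgroup.normalizer (K : Set G)) (hQL : Q ≤ L) (hQ : IsPGroup p Q)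
    (h0 : Br Q e ≠ 0)
    (hmax : ∀ R : Subgroup G, Q ≤ R → R ≤ L ⊓ Subgroup.normalizer (Q : Set G) → IsPGroup p R →
      Br R e ≠ 0 → R = Q) : IsDefGrp p L e Q := by
  refine he.isDefGrp_of_maximal hKL hL hQL hQ h0 fun R h1 h2 h3 h4 => ?_
  by_contra hne
  have hlt := lt_inf_normalizer h3 (lt_of_le_of_ne h1 (Ne.symm hne))
  exact hlt.ne' (hmax _ hlt.le (inf_le_inf_right _ h2) (h3.to_le inf_le_left)
    (Br_ne_zero_of_le inf_le_left h4))

theorem IsPrimIdem.isDefGrp_iff_maximal (he : IsPrimIdem (Zalg k K L) e) (hKL : K ≤ L)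
    (hL : L ≤ Subgroup.normalizer (K : Set G)) : IsDefGrp p L e D ↔ D ≤ L ∧ IsPGroup p D ∧
      Br D e ≠ 0 ∧ ∀ R : Subgroup G, D ≤ R → R ≤ L → IsPGroup p R → Br R e ≠ 0 → R = D :=
  ⟨fun h => ⟨h.le, h.isPGroup, h.br_ne_zero, fun _ => h.eq_of_le⟩,
    fun h => he.isDefGrp_of_maximal hKL hL h.1 h.2.1 h.2.2.1 h.2.2.2⟩

/-- Min-max: if the orbit sum of `x` is a unit on `e`, then `C_L(x)` contains a defect group. -/
theorem IsDefGrp.exists_cjS_le_centralizer (h : IsDefGrp p L e D)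
    (he : IsPrimIdem (Zalg k K L) e) (hKL : K ≤ L) (hL : L ≤ Subgroup.normalizer (K : Set G))
    {x : G} (hx : x ∈ K) (hn : ¬ IsNilpotent (orbitSum k L x * e)) :
    ∃ g ∈ L, cjS g D ≤ Subgroup.centralizer {x} := by
  obtain ⟨S, hS⟩ := exists_isSylowIn p (L ⊓ Subgroup.centralizer {x})
  obtain ⟨g, hg, hle⟩ := h.of_inDef
    (he.inDef_of_not_isNilpotent hKL (orbitSum_mem_Zalg hL hx) (inDef_orbitSum hS) hn)
  exact ⟨g, hg, hle.trans (hS.le.trans inf_le_right)⟩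

theorem IsDefGrp.exists_defect_elem (h : IsDefGrp p L e D) (he : IsPrimIdem (Zalg k K L) e)
    (hKL : K ≤ L) (hL : L ≤ Subgroup.normalizer (K : Set G)) :
    ∃ x ∈ K, e.coeff x ≠ 0 ∧ ¬ IsNilpotent (orbitSum k L x * e) ∧
      IsSylowIn p D (L ⊓ Subgroup.centralizer {x}) := by
  obtain ⟨x, hxK, hx, hn⟩ := he.exists_defect_elem hKL hL
  obtain ⟨g, hg, hle⟩ := h.exists_cjS_le_centralizer he hKL hL hxK hn
  rw [cjS_le_iff, cjS_centralizer_singleton] at hle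
  have h1 : e.coeff (g⁻¹ * x * g⁻¹⁻¹) ≠ 0 := by rwa [coeff_conj_of_mem_fixedBy he.mem.2 (inv_mem hg)]
  exact ⟨_, mem_of_coeff_ne_zero he.mem.1 h1, h1, by rwa [orbitSum_conj (inv_mem hg)],
    h.isSylowIn_of_coeff (mem_centralizer_iff_le.2 hle) h1⟩

theorem IsPrimIdem.isDefGrp_iff (he : IsPrimIdem (Zalg k K L) e) (hKL : K ≤ L)
    (hL : L ≤ Subgroup.normalizer (K : Set G)) : IsDefGrp p L e D ↔
      ∃ x, e.coeff x ≠ 0 ∧ ¬ IsNilpotent (orbitSum k L x * e) ∧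
        IsSylowIn p D (L ⊓ Subgroup.centralizer {x}) :=
  ⟨fun h => (h.exists_defect_elem he hKL hL).imp fun _ h => h.2,
    fun ⟨_, h1, h2, h3⟩ => he.isDefGrp_of_defect_elem hKL hL h1 h2 h3⟩

/-- A defect group in `L` lying in `L' ≤ L` is a defect group in `L'`. -/
theorem IsDefGrp.of_le {K' L' : Subgroup G} (h : IsDefGrp p L e D)
    (he : IsPrimIdem (Zalg k K' L') e) (hKL : K' ≤ L') (hL : L' ≤ Subgroup.normalizer (K' : Set G))
    (h1 : D ≤ L') (h2 : L' ≤ L) : IsDefGrp p L' e D :=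
  he.isDefGrp_of_maximal hKL hL h1 h.isPGroup h.br_ne_zero fun _ h3 h4 h5 h6 =>
    h.eq_of_le h3 (h4.trans h2) h5 h6

/-- If `e` is a block idempotent of `K` stable under `L`, a defect group `D` in `L` has `DK/K`
Sylow in `L/K`. -/
theorem IsDefGrp.not_dvd_relIndex_sup [IsAlgClosed k] (h : IsDefGrp p L e D) (he : IsBlockIdem K e)
    (heL : e ∈ fixedBy k L) (hKL : K ≤ L) (hL : L ≤ Subgroup.normalizer (K : Set G)) :
    ¬ p ∣ (D ⊔ K).relIndex L := by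
  obtain ⟨c, hc, h1⟩ := h.exists_relTr hL ⟨he.mem.1, heL⟩
  have hDK : D ⊔ K ≤ L := sup_le h.le hKL
  rw [← relTr_trans le_sup_left hDK hc.2] at h1
  have hz : relTr D (D ⊔ K) c ∈ Zalg k K K :=
    Zalg_mono le_rfl le_sup_right (relTr_mem_Zalg (hDK.trans hL) hc)
  have h2 := he.chr_relTr (Zalg_mul_comm le_rfl) (Q := D ⊔ K) heL
    (fun g hg => cj_mem_Zalg (hL hg) (hL hg) hz)
  rw [h1, he.chr_self (Zalg_mul_comm le_rfl)] at h2
  intro hd
  rw [(CharP.cast_eq_zero_iff k p _).2 hd, zero_mul] at h2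
  exact one_ne_zero h2

end Cfsg.GA

set_option linter.all false in
theorem Cfsg.Rz.GA_Defect_0 : True := by
  have := @_root_.Cfsg.GA.InDef.eq_def.{0, 0}
  have := @_root_.Cfsg.GA.InDef.eq_1.{0, 0}
  have := @_root_.Cfsg.GA.InDef.fun_cases
  trivial
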